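import Cfsg.Agent.Lib.Cert.Suz3.Q

set_option autoImplicit false
set_option maxRecDepth 100000

namespace Cfsg.Agent.Ct.Suz3

open Cfsg.Agent.PC

theorem d36000 : Nat.beq (rng f3 (nat_lit 36000) (nat_lit 2000)) (nat_lit 0) = true := by decide +kernel
theorem d38000 : Nat.beq (rng f3 (nat_lit 38000) (nat_lit 2000)) (nat_lit 0) = true := by decide +kernel
theorem d40000 : Nat.beq (rng f3 (nat_lit 40000) (nat_lit 2000)) (nat_lit 0) = true := by decide +kernel
theorem d42000 : Nat.beq (rng f3 (nat_lit 42000) (nat_lit 2000)) (nat_lit 0) = true := by decide +kernel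
theorem d44000 : Nat.beq (rng f3 (nat_lit 44000) (nat_lit 1759)) (nat_lit 0) = true := by decide +kernel

end Cfsg.Agent.Ct.Suz3
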