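import Cfsg.Agent.Lib.Cert.Suz3.D0
import Cfsg.Agent.Lib.Cert.Suz3.D1
import Cfsg.Agent.Lib.Cert.Suz3.D2
import Cfsg.Agent.Lib.Cert.Suz3.D3
import Cfsg.Agent.Lib.Cert.Suz3.C

set_option autoImplicit false
set_option maxRecDepth 100000

set_option maxHeartbeats 400000
namespace Cfsg.Agent.Ct.Suz3

open Cfsg.Agent.PC

open Cfsg.Agent.Fi Cfsg.Agent.Ct
theorem h3 : ∀ i < 45759, f3 i = 0 := by
  have h := zero_lt_zero f3
  have h := zero_lt_add (a := (nat_lit 0)) (n := (nat_lit 2000)) (b := (nat_lit 2000)) h d0 rfl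
  have h := zero_lt_add (a := (nat_lit 2000)) (n := (nat_lit 2000)) (b := (nat_lit 4000)) h d2000 rfl
  have h := zero_lt_add (a := (nat_lit 4000)) (n := (nat_lit 2000)) (b := (nat_lit 6000)) h d4000 rfl
  have h := zero_lt_add (a := (nat_lit 6000)) (n := (nat_lit 2000)) (b := (nat_lit 8000)) h d6000 rfl
  have h := zero_lt_add (a := (nat_lit 8000)) (n := (nat_lit 2000)) (b := (nat_lit 10000)) h d8000 rfl
  have h := zero_lt_add (a := (nat_lit 10000)) (n := (nat_lit 2000)) (b := (nat_lit 12000)) h d10000 rfl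
  have h := zero_lt_add (a := (nat_lit 12000)) (n := (nat_lit 2000)) (b := (nat_lit 14000)) h d12000 rfl
  have h := zero_lt_add (a := (nat_lit 14000)) (n := (nat_lit 2000)) (b := (nat_lit 16000)) h d14000 rfl
  have h := zero_lt_add (a := (nat_lit 16000)) (n := (nat_lit 2000)) (b := (nat_lit 18000)) h d16000 rfl
  have h := zero_lt_add (a := (nat_lit 18000)) (n := (nat_lit 2000)) (b := (nat_lit 20000)) h d18000 rfl
  have h := zero_lt_add (a := (nat_lit 20000)) (n := (nat_lit 2000)) (b := (nat_lit 22000)) h d20000 rfl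
  have h := zero_lt_add (a := (nat_lit 22000)) (n := (nat_lit 2000)) (b := (nat_lit 24000)) h d22000 rfl
  have h := zero_lt_add (a := (nat_lit 24000)) (n := (nat_lit 2000)) (b := (nat_lit 26000)) h d24000 rfl
  have h := zero_lt_add (a := (nat_lit 26000)) (n := (nat_lit 2000)) (b := (nat_lit 28000)) h d26000 rfl
  have h := zero_lt_add (a := (nat_lit 28000)) (n := (nat_lit 2000)) (b := (nat_lit 30000)) h d28000 rfl
  have h := zero_lt_add (a := (nat_lit 30000)) (n := (nat_lit 2000)) (b := (nat_lit 32000)) h d30000 rfl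
  have h := zero_lt_add (a := (nat_lit 32000)) (n := (nat_lit 2000)) (b := (nat_lit 34000)) h d32000 rfl
  have h := zero_lt_add (a := (nat_lit 34000)) (n := (nat_lit 2000)) (b := (nat_lit 36000)) h d34000 rfl
  have h := zero_lt_add (a := (nat_lit 36000)) (n := (nat_lit 2000)) (b := (nat_lit 38000)) h d36000 rfl
  have h := zero_lt_add (a := (nat_lit 38000)) (n := (nat_lit 2000)) (b := (nat_lit 40000)) h d38000 rfl
  have h := zero_lt_add (a := (nat_lit 40000)) (n := (nat_lit 2000)) (b := (nat_lit 42000)) h d40000 rfl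
  have h := zero_lt_add (a := (nat_lit 42000)) (n := (nat_lit 2000)) (b := (nat_lit 44000)) h d42000 rfl
  have h := zero_lt_add (a := (nat_lit 44000)) (n := (nat_lit 1759)) (b := (nat_lit 45759)) h d44000 rfl
  exact h


open Subgroup MulAction in
theorem half {G : Type*} [Group G] [Finite G] {q : ℕ → G} {m : ℕ} {z : G}
    (h : ∀ j < m, q j * z * (q j)⁻¹ = z ∨ q j * z * (q j)⁻¹ = z⁻¹) : Nat.card (gen q m) ≤ 2 * Nat.card (centralizer {z}) := by
  let K : Subgroup G :=
    { carrier := {g | g * z * g⁻¹ = z ∨ g * z * g⁻¹ = z⁻¹}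
      one_mem' := .inl (by simp)
      mul_mem' := by
        intro a b ha hb
        have e : a * b * z * (a * b)⁻¹ = a * (b * z * b⁻¹) * a⁻¹ := by group
        have e2 : a * z⁻¹ * a⁻¹ = (a * z * a⁻¹)⁻¹ := by group
        show _ ∨ _
        rcases hb with hb | hb <;> rcases ha with ha | ha <;> rw [e, hb] <;> simp [e2, ha]
      inv_mem' := by
        intro a ha
        show _ ∨ _
        rcases ha with ha | ha
        · left
          calc a⁻¹ * z * a⁻¹⁻¹ = a⁻¹ * (a * z * a⁻¹) * a⁻¹⁻¹ := by rw [ha]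
            _ = z := by group
        · right
          calc a⁻¹ * z * a⁻¹⁻¹ = a⁻¹ * (a * z * a⁻¹)⁻¹ * a⁻¹⁻¹ := by rw [ha, inv_inv z]
            _ = z⁻¹ := by group }
  have hK : gen q m ≤ K := gen_le h
  have e2 : stabilizer G (show Cj G from z) = centralizer {z} := Subgroup.ext fun g =>
    (conj_eq_iff (G := G)).trans mem_centralizer_singleton_iff.symm
  rw [card_eq_orbit_mul (gen q m) (show Cj G from z), e2]
  refine Nat.mul_le_mul ((Set.ncard_le_ncard (α := G) (t := {z, z⁻¹}) ?_ (Set.toFinite _)).trans ?_) (card_le_of_le inf_le_right)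
  · rintro _ ⟨k, rfl⟩
    exact hK k.2
  · exact (Set.ncard_insert_le _ _).trans (by simp)
theorem up : Nat.card (gen q 6) ≤ 19595520 := by
  have h := md.cls cs h3 (L := ⊤) fun _ _ => trivial
  rw [top_inf_eq, Subgroup.card_top, Suz.card] at h
  have z3 : q 6 * q 6 = (q 6)⁻¹ := by
    have := md.eq (u := [6, 6, 6]) (w := []) (by decide +kernel)
    simp only [ev_cons, ev_nil, one_mul] at this
    exact eq_inv_of_mul_eq_one_left this
  have h2 := half (q := q) (m := 6) (z := q 6) fun j hj => by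
    rcases (by decide +kernel : ∀ j < 6, eqE Q Suz.B0 11 [6, j] [j, 6] = 0 ∨ eqE Q Suz.B0 11 [6, j] [j, 6, 6] = 0) j hj with e | e <;>
      have := md.eq e <;> simp only [ev_cons, ev_nil, one_mul] at this
    · exact .inl (mul_inv_eq_of_eq_mul this)
    · exact .inr (mul_inv_eq_of_eq_mul (z3 ▸ this))
  exact h2.trans (Nat.mul_le_mul_left 2 (show _ ≤ 9797760 from Nat.le_of_mul_le_mul_left (c := 45760) h (by decide)))
theorem idx : (gen q 6).index = 22880 := by
  have h := (gen q 6).index_mul_card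
  rw [le_antisymm up low, Suz.card] at h
  exact Nat.eq_of_mul_eq_mul_right (m := 19595520) (by decide) h

end Cfsg.Agent.Ct.Suz3
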